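import Cfsg.Agent.Lib.Recog.SporBound.Fi22Outer.StructChecks.Defs

set_option autoImplicit false
set_option maxRecDepth 20000
set_option Elab.async false

/-! Kernel checks for the structure of the fixed groups of the outer involutions of Fi22 (owner: helper24). -/

namespace CfsgLib.Recog.SporBound.Fi22Outer

open CfsgLib.Recog.SporBound.Fi22Pair
open CfsgLib.Recog.SporBound.Fi22Aut (comB)

theorem maps1_0_0 : mapsPart rows360 120 (genOne.getD 0 (false, [])) 0 = true := by decide +kernel

theorem maps1_0_1 : mapsPart rows360 120 (genOne.getD 0 (false, [])) 1 = true := by decide +kernel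

theorem maps1_0_2 : mapsPart rows360 120 (genOne.getD 0 (false, [])) 2 = true := by decide +kernel

theorem maps1_0_3 : mapsPart rows360 120 (genOne.getD 0 (false, [])) 3 = true := by decide +kernel

theorem rest1_0 :
    (commB 0 (genOne.getD 0 (false, [])) && commB 1 (genOne.getD 0 (false, [])) && (genOne.getD 0 (false, [])).2.all (fun r => comB 7 r)) = true ∧
    mapsB rows63 1 (genOne.getD 0 (false, [])) = true := by
  constructor <;> decide +kernel

theorem maps1_1_0 : mapsPart rows360 120 (genOne.getD 1 (false, [])) 0 = true := by decide +kernel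

theorem maps1_1_1 : mapsPart rows360 120 (genOne.getD 1 (false, [])) 1 = true := by decide +kernel

theorem maps1_1_2 : mapsPart rows360 120 (genOne.getD 1 (false, [])) 2 = true := by decide +kernel

theorem maps1_1_3 : mapsPart rows360 120 (genOne.getD 1 (false, [])) 3 = true := by decide +kernel

theorem rest1_1 :
    (commB 0 (genOne.getD 1 (false, [])) && commB 1 (genOne.getD 1 (false, [])) && (genOne.getD 1 (false, [])).2.all (fun r => comB 7 r)) = true ∧
    mapsB rows63 1 (genOne.getD 1 (false, [])) = true := by
  constructor <;> decide +kernel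

theorem maps1_2_0 : mapsPart rows360 120 (genOne.getD 2 (false, [])) 0 = true := by decide +kernel

theorem maps1_2_1 : mapsPart rows360 120 (genOne.getD 2 (false, [])) 1 = true := by decide +kernel

theorem maps1_2_2 : mapsPart rows360 120 (genOne.getD 2 (false, [])) 2 = true := by decide +kernel

theorem maps1_2_3 : mapsPart rows360 120 (genOne.getD 2 (false, [])) 3 = true := by decide +kernel

theorem rest1_2 :
    (commB 0 (genOne.getD 2 (false, [])) && commB 1 (genOne.getD 2 (false, [])) && (genOne.getD 2 (false, [])).2.all (fun r => comB 7 r)) = true ∧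
    mapsB rows63 1 (genOne.getD 2 (false, [])) = true := by
  constructor <;> decide +kernel

theorem maps1_3_0 : mapsPart rows360 120 (genOne.getD 3 (false, [])) 0 = true := by decide +kernel

theorem maps1_3_1 : mapsPart rows360 120 (genOne.getD 3 (false, [])) 1 = true := by decide +kernel

theorem maps1_3_2 : mapsPart rows360 120 (genOne.getD 3 (false, [])) 2 = true := by decide +kernel

theorem maps1_3_3 : mapsPart rows360 120 (genOne.getD 3 (false, [])) 3 = true := by decide +kernel

theorem rest1_3 :
    (commB 0 (genOne.getD 3 (false, [])) && commB 1 (genOne.getD 3 (false, [])) && (genOne.getD 3 (false, [])).2.all (fun r => comB 7 r)) = true ∧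
    mapsB rows63 1 (genOne.getD 3 (false, [])) = true := by
  constructor <;> decide +kernel

theorem maps1_4_0 : mapsPart rows360 120 (genOne.getD 4 (false, [])) 0 = true := by decide +kernel

theorem maps1_4_1 : mapsPart rows360 120 (genOne.getD 4 (false, [])) 1 = true := by decide +kernel

theorem maps1_4_2 : mapsPart rows360 120 (genOne.getD 4 (false, [])) 2 = true := by decide +kernel

theorem maps1_4_3 : mapsPart rows360 120 (genOne.getD 4 (false, [])) 3 = true := by decide +kernel

theorem rest1_4 :
    (commB 0 (genOne.getD 4 (false, [])) && commB 1 (genOne.getD 4 (false, [])) && (genOne.getD 4 (false, [])).2.all (fun r => comB 7 r)) = true ∧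
    mapsB rows63 1 (genOne.getD 4 (false, [])) = true := by
  constructor <;> decide +kernel

theorem maps1_5_0 : mapsPart rows360 120 (genOne.getD 5 (false, [])) 0 = true := by decide +kernel

theorem maps1_5_1 : mapsPart rows360 120 (genOne.getD 5 (false, [])) 1 = true := by decide +kernel

theorem maps1_5_2 : mapsPart rows360 120 (genOne.getD 5 (false, [])) 2 = true := by decide +kernel

theorem maps1_5_3 : mapsPart rows360 120 (genOne.getD 5 (false, [])) 3 = true := by decide +kernel

theorem rest1_5 :
    (commB 0 (genOne.getD 5 (false, [])) && commB 1 (genOne.getD 5 (false, [])) && (genOne.getD 5 (false, [])).2.all (fun r => comB 7 r)) = true ∧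
    mapsB rows63 1 (genOne.getD 5 (false, [])) = true := by
  constructor <;> decide +kernel

theorem maps1_6_0 : mapsPart rows360 120 (genOne.getD 6 (false, [])) 0 = true := by decide +kernel

theorem maps1_6_1 : mapsPart rows360 120 (genOne.getD 6 (false, [])) 1 = true := by decide +kernel

theorem maps1_6_2 : mapsPart rows360 120 (genOne.getD 6 (false, [])) 2 = true := by decide +kernel

theorem maps1_6_3 : mapsPart rows360 120 (genOne.getD 6 (false, [])) 3 = true := by decide +kernel

theorem rest1_6 :
    (commB 0 (genOne.getD 6 (false, [])) && commB 1 (genOne.getD 6 (false, [])) && (genOne.getD 6 (false, [])).2.all (fun r => comB 7 r)) = true ∧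
    mapsB rows63 1 (genOne.getD 6 (false, [])) = true := by
  constructor <;> decide +kernel

theorem maps1_7_0 : mapsPart rows360 120 (genOne.getD 7 (false, [])) 0 = true := by decide +kernel

theorem maps1_7_1 : mapsPart rows360 120 (genOne.getD 7 (false, [])) 1 = true := by decide +kernel

theorem maps1_7_2 : mapsPart rows360 120 (genOne.getD 7 (false, [])) 2 = true := by decide +kernel

theorem maps1_7_3 : mapsPart rows360 120 (genOne.getD 7 (false, [])) 3 = true := by decide +kernel

theorem rest1_7 :
    (commB 0 (genOne.getD 7 (false, [])) && commB 1 (genOne.getD 7 (false, [])) && (genOne.getD 7 (false, [])).2.all (fun r => comB 7 r)) = true ∧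
    mapsB rows63 1 (genOne.getD 7 (false, [])) = true := by
  constructor <;> decide +kernel

theorem maps1 : genOne.all (fun e => commB 0 e && commB 1 e && e.2.all (fun r => comB 7 r) &&
    mapsB rows360 120 e && mapsB rows63 1 e) = true := by
  refine all_of_getD _ _ (false, []) fun g hg => ?_
  have hl : genOne.length = 8 := by decide +kernel
  rw [hl] at hg
  match g, hg with
  | 0, _ =>
    rw [rest1_0.1, rest1_0.2, mapsB_of_parts _ _ _ (Nat.le_of_eq len_ok.1) maps1_0_0 maps1_0_1 maps1_0_2 maps1_0_3]
    rfl
  | 1, _ =>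
    rw [rest1_1.1, rest1_1.2, mapsB_of_parts _ _ _ (Nat.le_of_eq len_ok.1) maps1_1_0 maps1_1_1 maps1_1_2 maps1_1_3]
    rfl
  | 2, _ =>
    rw [rest1_2.1, rest1_2.2, mapsB_of_parts _ _ _ (Nat.le_of_eq len_ok.1) maps1_2_0 maps1_2_1 maps1_2_2 maps1_2_3]
    rfl
  | 3, _ =>
    rw [rest1_3.1, rest1_3.2, mapsB_of_parts _ _ _ (Nat.le_of_eq len_ok.1) maps1_3_0 maps1_3_1 maps1_3_2 maps1_3_3]
    rfl
  | 4, _ =>
    rw [rest1_4.1, rest1_4.2, mapsB_of_parts _ _ _ (Nat.le_of_eq len_ok.1) maps1_4_0 maps1_4_1 maps1_4_2 maps1_4_3]
    rfl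
  | 5, _ =>
    rw [rest1_5.1, rest1_5.2, mapsB_of_parts _ _ _ (Nat.le_of_eq len_ok.1) maps1_5_0 maps1_5_1 maps1_5_2 maps1_5_3]
    rfl
  | 6, _ =>
    rw [rest1_6.1, rest1_6.2, mapsB_of_parts _ _ _ (Nat.le_of_eq len_ok.1) maps1_6_0 maps1_6_1 maps1_6_2 maps1_6_3]
    rfl
  | 7, _ =>
    rw [rest1_7.1, rest1_7.2, mapsB_of_parts _ _ _ (Nat.le_of_eq len_ok.1) maps1_7_0 maps1_7_1 maps1_7_2 maps1_7_3]
    rfl
  | _ + 8, h => exact absurd h (by omega)

end CfsgLib.Recog.SporBound.Fi22Outer
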