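import Cfsg.Agent.Lib.Recog.SporBound.Fi22Outer.StructChecks.Defs

set_option autoImplicit false
set_option maxRecDepth 20000
set_option Elab.async false

/-! Kernel checks for the structure of the fixed groups of the outer involutions of Fi22 (owner: helper24). -/

namespace CfsgLib.Recog.SporBound.Fi22Outer

open CfsgLib.Recog.SporBound.Fi22Pair
open CfsgLib.Recog.SporBound.Fi22Aut (comB)

/-- The check of the data of the third group on a piece. -/
noncomputable def twoPart (k : ℕ) : Bool :=
  ((genTwo.drop (4 * k)).take 4).all fun e => commB 2 e && mapsB rows72 2 e

theorem maps2_0 : twoPart 0 = true := by decide +kernel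

theorem maps2_1 : twoPart 1 = true := by decide +kernel

theorem maps2_2 : twoPart 2 = true := by decide +kernel

theorem maps2 : genTwo.all (fun e => commB 2 e && mapsB rows72 2 e) = true := by
  refine all_of_pieces _ 4 3 _ (by decide +kernel) fun k hk => ?_
  match k, hk with
  | 0, _ => exact maps2_0
  | 1, _ => exact maps2_1
  | 2, _ => exact maps2_2
  | _ + 3, h => exact absurd h (by omega)

/-- The check of the partners on a piece. -/
noncomputable def partnerPart (j : ℕ) : Bool :=
  (((List.range 120).drop (20 * j)).take 20).all (fun k =>
    let r := rows360.getD k 0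
    let p := partnerData.getD k []
    Nat.beq p.length 2 && !Nat.beq (p.getD 0 0) (p.getD 1 0) &&
      p.all fun q => Nat.blt q 3510 && comB r q && !Nat.beq r q && commB 0 (false, [r, q]) &&
        (List.range 3).all fun b => Nat.beq (blkImg rows360 120 (false, [r, q]) b) b)

theorem partner_ok0 : partnerPart 0 = true := by decide +kernel

theorem partner_ok1 : partnerPart 1 = true := by decide +kernel

theorem partner_ok2 : partnerPart 2 = true := by decide +kernel

theorem partner_ok3 : partnerPart 3 = true := by decide +kernel

theorem partner_ok4 : partnerPart 4 = true := by decide +kernel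

theorem partner_ok5 : partnerPart 5 = true := by decide +kernel

theorem partner_ok : (List.range 120).all (fun k =>
    let r := rows360.getD k 0
    let p := partnerData.getD k []
    Nat.beq p.length 2 && !Nat.beq (p.getD 0 0) (p.getD 1 0) &&
      p.all fun q => Nat.blt q 3510 && comB r q && !Nat.beq r q && commB 0 (false, [r, q]) &&
        (List.range 3).all fun b => Nat.beq (blkImg rows360 120 (false, [r, q]) b) b) = true := by
  refine all_of_pieces _ 20 6 _ (Nat.le_of_eq List.length_range) fun j hj => ?_
  match j, hj with
  | 0, _ => exact partner_ok0
  | 1, _ => exact partner_ok1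
  | 2, _ => exact partner_ok2
  | 3, _ => exact partner_ok3
  | 4, _ => exact partner_ok4
  | 5, _ => exact partner_ok5
  | _ + 6, h => exact absurd h (by omega)

end CfsgLib.Recog.SporBound.Fi22Outer
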