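import Cfsg.Agent.Lib.Recog.SporBound.Fi22Outer.Checks
import Cfsg.Agent.Lib.Recog.SporBound.Fi22Outer.StructData

set_option autoImplicit false
set_option maxRecDepth 20000
set_option Elab.async false

/-! Kernel checks for the structure of the fixed groups of the outer involutions of Fi22 (owner: helper24). -/

namespace CfsgLib.Recog.SporBound.Fi22Outer

open CfsgLib.Recog.SporBound.Fi22Pair
open CfsgLib.Recog.SporBound.Fi22Aut (comB)

/-- A datum respects the blocks of length `d` of a list of rows. -/
noncomputable def mapsB (R : List ℕ) (d : ℕ) (e : Bool × List ℕ) : Bool :=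
  (List.range R.length).all fun i =>
    let j := R.idxOf (ev e (R.getD i 0))
    Nat.blt j R.length && Nat.beq (j / d) (R.idxOf (ev e (R.getD (i / d * d) 0)) / d)

/-- The block of the image of a block. -/
noncomputable def blkImg (R : List ℕ) (d : ℕ) (e : Bool × List ℕ) (b : ℕ) : ℕ :=
  R.idxOf (ev e (R.getD (b * d) 0)) / d

/-- A datum commutes with a representative. -/
noncomputable def commB (i : ℕ) (e : Bool × List ℕ) : Bool :=
  e.2.all (fun r => Nat.blt r 3510) &&
    agree (fun c => ev e (ev (repData.getD i zData) c)) (fun c => ev (repData.getD i zData) (ev e c))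

/-- The elements of the first fixed group. -/
def genZero : List (Bool × List ℕ) := (genEight ++ swapRows).map fun r => (false, [r])

/-- The elements of the second fixed group. -/
def genOne : List (Bool × List ℕ) := (7 :: genSeven).map fun r => (false, [r])

/-- The elements of the third fixed group. -/
def genTwo : List (Bool × List ℕ) := genSix.map (fun r => (false, [r])) ++ kerSix.map fun l => (false, l)

/-- The nonsingular vectors of the plus type space in dimension eight, coded. -/
def refC (v x : ℕ) : ℕ :=
  let b := (List.range 4).countP (fun k => Nat.testBit v k && Nat.testBit x (k + 4)) +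
    (List.range 4).countP (fun k => Nat.testBit v (k + 4) && Nat.testBit x k)
  cond (Nat.beq (b % 2) 1) (Nat.xor x v) x

/-- A transvection on coded vectors. -/
def traC (v x : ℕ) : ℕ :=
  let b := (List.range 3).countP (fun k => Nat.testBit v k && Nat.testBit x (k + 3)) +
    (List.range 3).countP (fun k => Nat.testBit v (k + 3) && Nat.testBit x k)
  cond (Nat.beq (b % 2) 1) (Nat.xor x v) x

/-- A reflection on coded vectors of the minus type space in dimension six. -/
def refD (v x : ℕ) : ℕ :=
  let b := (List.range 2).countP (fun k => Nat.testBit v k && Nat.testBit x (k + 2)) +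
    (List.range 2).countP (fun k => Nat.testBit v (k + 2) && Nat.testBit x k) +
      (cond (Nat.testBit v 4 && Nat.testBit x 5) 1 0 + cond (Nat.testBit v 5 && Nat.testBit x 4) 1 0)
  cond (Nat.beq (b % 2) 1) (Nat.xor x v) x

/-- The signature of a product of the generators of the kernel. -/
noncomputable def kerSig (m : ℕ) : ℕ :=
  glData.foldl (fun acc c => acc * 4096 +
    evSeq (((List.range 6).filter fun k => Nat.testBit m k).map fun k => (false, kerSix.getD k [])) c) 0

/-- The check of a datum on a piece of the positions of a list of rows. -/
noncomputable def mapsPart (R : List ℕ) (d : ℕ) (e : Bool × List ℕ) (k : ℕ) : Bool :=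
  (((List.range R.length).drop (90 * k)).take 90).all fun i =>
    let j := R.idxOf (ev e (R.getD i 0))
    Nat.blt j R.length && Nat.beq (j / d) (R.idxOf (ev e (R.getD (i / d * d) 0)) / d)

theorem mapsB_of_parts (R : List ℕ) (d : ℕ) (e : Bool × List ℕ) (hR : R.length ≤ 360)
    (h0 : mapsPart R d e 0 = true) (h1 : mapsPart R d e 1 = true) (h2 : mapsPart R d e 2 = true)
    (h3 : mapsPart R d e 3 = true) : mapsB R d e = true := by
  refine all_of_pieces _ 90 4 _ (by rw [List.length_range]; omega) fun k hk => ?_
  match k, hk with
  | 0, _ => exact h0
  | 1, _ => exact h1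
  | 2, _ => exact h2
  | 3, _ => exact h3
  | _ + 4, h => exact absurd h (by omega)

theorem all_of_getD {α : Type} (p : α → Bool) (l : List α) (a : α)
    (h : ∀ g < l.length, p (l.getD g a) = true) : l.all p = true := by
  rw [List.all_eq_true]
  intro x hx
  obtain ⟨g, hg, rfl⟩ := List.getElem_of_mem hx
  have := h g hg
  rwa [List.getD_eq_getElem _ _ hg] at this

theorem len_ok : rows360.length = 360 ∧ rows63.length = 63 ∧ rows72.length = 72 ∧ genEight.length = 8 ∧
    genSeven.length = 7 ∧ genSix.length = 6 ∧ kerSix.length = 6 ∧ nonsingSix.length = 36 ∧ baseSix.length = 6 ∧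
    swapRows.length = 2 ∧ partnerData.length = 120 := by decide +kernel

theorem rows_lt : (rows360 ++ rows63 ++ rows72).all (fun r => Nat.blt r 3510) = true := by decide +kernel

theorem rows_distinct : distinctB rows360 = true ∧ distinctB rows63 = true ∧ distinctB rows72 = true := by
  decide +kernel

theorem swap_blk : (List.range 2).all (fun k => Nat.beq (blkImg rows360 120 (false, [swapRows.getD k 0]) 0) (2 - k)) =
    true := by decide +kernel

theorem blk_eight : genEight.all (fun r => (List.range 3).all fun b =>
    Nat.beq (blkImg rows360 120 (false, [r]) b) ([0, 2, 1].getD b 0)) = true := by decide +kernel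

theorem blk_seven : (7 :: genSeven).all (fun r => (List.range 3).all fun b =>
    Nat.beq (blkImg rows360 120 (false, [r]) b) ([2, 1, 0].getD b 0)) = true := by decide +kernel

theorem fix_seven : rows63.all (fun r => Nat.beq (ev (false, [7]) r) r) = true := by decide +kernel

theorem fix_ker : kerSix.all (fun l => (List.range 36).all fun b => Nat.beq (blkImg rows72 2 (false, l) b) b) = true := by
  decide +kernel

theorem ker_rel : kerSix.all (fun l => agree (fun c => ev (false, l) (ev (false, l) c)) id &&
    kerSix.all fun l' => agree (fun c => ev (false, l) (ev (false, l') c)) (fun c => ev (false, l') (ev (false, l) c))) =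
    true := by decide +kernel

theorem ker_sep : distinctB ((List.range 64).map kerSig) = true := by decide +kernel

end CfsgLib.Recog.SporBound.Fi22Outer
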