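import Cfsg.Agent.Lib.Recog.SporBound.Fi22Outer.StructChecks.Defs

set_option autoImplicit false
set_option maxRecDepth 20000
set_option Elab.async false

/-! Kernel checks for the structure of the fixed groups of the outer involutions of Fi22 (owner: helper24). -/

namespace CfsgLib.Recog.SporBound.Fi22Outer

open CfsgLib.Recog.SporBound.Fi22Pair
open CfsgLib.Recog.SporBound.Fi22Aut (comB)

theorem maps0_0_0 : mapsPart rows360 120 (genZero.getD 0 (false, [])) 0 = true := by decide +kernel

theorem maps0_0_1 : mapsPart rows360 120 (genZero.getD 0 (false, [])) 1 = true := by decide +kernel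

theorem maps0_0_2 : mapsPart rows360 120 (genZero.getD 0 (false, [])) 2 = true := by decide +kernel

theorem maps0_0_3 : mapsPart rows360 120 (genZero.getD 0 (false, [])) 3 = true := by decide +kernel

theorem comm0_0 : commB 0 (genZero.getD 0 (false, [])) = true := by decide +kernel

theorem maps0_1_0 : mapsPart rows360 120 (genZero.getD 1 (false, [])) 0 = true := by decide +kernel

theorem maps0_1_1 : mapsPart rows360 120 (genZero.getD 1 (false, [])) 1 = true := by decide +kernel

theorem maps0_1_2 : mapsPart rows360 120 (genZero.getD 1 (false, [])) 2 = true := by decide +kernel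

theorem maps0_1_3 : mapsPart rows360 120 (genZero.getD 1 (false, [])) 3 = true := by decide +kernel

theorem comm0_1 : commB 0 (genZero.getD 1 (false, [])) = true := by decide +kernel

theorem maps0_2_0 : mapsPart rows360 120 (genZero.getD 2 (false, [])) 0 = true := by decide +kernel

theorem maps0_2_1 : mapsPart rows360 120 (genZero.getD 2 (false, [])) 1 = true := by decide +kernel

theorem maps0_2_2 : mapsPart rows360 120 (genZero.getD 2 (false, [])) 2 = true := by decide +kernel

theorem maps0_2_3 : mapsPart rows360 120 (genZero.getD 2 (false, [])) 3 = true := by decide +kernel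

theorem comm0_2 : commB 0 (genZero.getD 2 (false, [])) = true := by decide +kernel

theorem maps0_3_0 : mapsPart rows360 120 (genZero.getD 3 (false, [])) 0 = true := by decide +kernel

theorem maps0_3_1 : mapsPart rows360 120 (genZero.getD 3 (false, [])) 1 = true := by decide +kernel

theorem maps0_3_2 : mapsPart rows360 120 (genZero.getD 3 (false, [])) 2 = true := by decide +kernel

theorem maps0_3_3 : mapsPart rows360 120 (genZero.getD 3 (false, [])) 3 = true := by decide +kernel

theorem comm0_3 : commB 0 (genZero.getD 3 (false, [])) = true := by decide +kernel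

theorem maps0_4_0 : mapsPart rows360 120 (genZero.getD 4 (false, [])) 0 = true := by decide +kernel

theorem maps0_4_1 : mapsPart rows360 120 (genZero.getD 4 (false, [])) 1 = true := by decide +kernel

theorem maps0_4_2 : mapsPart rows360 120 (genZero.getD 4 (false, [])) 2 = true := by decide +kernel

theorem maps0_4_3 : mapsPart rows360 120 (genZero.getD 4 (false, [])) 3 = true := by decide +kernel

theorem comm0_4 : commB 0 (genZero.getD 4 (false, [])) = true := by decide +kernel

theorem maps0_5_0 : mapsPart rows360 120 (genZero.getD 5 (false, [])) 0 = true := by decide +kernel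

theorem maps0_5_1 : mapsPart rows360 120 (genZero.getD 5 (false, [])) 1 = true := by decide +kernel

theorem maps0_5_2 : mapsPart rows360 120 (genZero.getD 5 (false, [])) 2 = true := by decide +kernel

theorem maps0_5_3 : mapsPart rows360 120 (genZero.getD 5 (false, [])) 3 = true := by decide +kernel

theorem comm0_5 : commB 0 (genZero.getD 5 (false, [])) = true := by decide +kernel

theorem maps0_6_0 : mapsPart rows360 120 (genZero.getD 6 (false, [])) 0 = true := by decide +kernel

theorem maps0_6_1 : mapsPart rows360 120 (genZero.getD 6 (false, [])) 1 = true := by decide +kernel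

theorem maps0_6_2 : mapsPart rows360 120 (genZero.getD 6 (false, [])) 2 = true := by decide +kernel

theorem maps0_6_3 : mapsPart rows360 120 (genZero.getD 6 (false, [])) 3 = true := by decide +kernel

theorem comm0_6 : commB 0 (genZero.getD 6 (false, [])) = true := by decide +kernel

theorem maps0_7_0 : mapsPart rows360 120 (genZero.getD 7 (false, [])) 0 = true := by decide +kernel

theorem maps0_7_1 : mapsPart rows360 120 (genZero.getD 7 (false, [])) 1 = true := by decide +kernel

theorem maps0_7_2 : mapsPart rows360 120 (genZero.getD 7 (false, [])) 2 = true := by decide +kernel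

theorem maps0_7_3 : mapsPart rows360 120 (genZero.getD 7 (false, [])) 3 = true := by decide +kernel

theorem comm0_7 : commB 0 (genZero.getD 7 (false, [])) = true := by decide +kernel

theorem maps0_8_0 : mapsPart rows360 120 (genZero.getD 8 (false, [])) 0 = true := by decide +kernel

theorem maps0_8_1 : mapsPart rows360 120 (genZero.getD 8 (false, [])) 1 = true := by decide +kernel

theorem maps0_8_2 : mapsPart rows360 120 (genZero.getD 8 (false, [])) 2 = true := by decide +kernel

theorem maps0_8_3 : mapsPart rows360 120 (genZero.getD 8 (false, [])) 3 = true := by decide +kernel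

theorem comm0_8 : commB 0 (genZero.getD 8 (false, [])) = true := by decide +kernel

theorem maps0_9_0 : mapsPart rows360 120 (genZero.getD 9 (false, [])) 0 = true := by decide +kernel

theorem maps0_9_1 : mapsPart rows360 120 (genZero.getD 9 (false, [])) 1 = true := by decide +kernel

theorem maps0_9_2 : mapsPart rows360 120 (genZero.getD 9 (false, [])) 2 = true := by decide +kernel

theorem maps0_9_3 : mapsPart rows360 120 (genZero.getD 9 (false, [])) 3 = true := by decide +kernel

theorem comm0_9 : commB 0 (genZero.getD 9 (false, [])) = true := by decide +kernel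

theorem maps0 : genZero.all (fun e => commB 0 e && mapsB rows360 120 e) = true := by
  refine all_of_getD _ _ (false, []) fun g hg => ?_
  have hl : genZero.length = 10 := by decide +kernel
  rw [hl] at hg
  rw [Bool.and_eq_true]
  match g, hg with
  | 0, _ => exact ⟨comm0_0, mapsB_of_parts _ _ _ (Nat.le_of_eq len_ok.1) maps0_0_0 maps0_0_1 maps0_0_2 maps0_0_3⟩
  | 1, _ => exact ⟨comm0_1, mapsB_of_parts _ _ _ (Nat.le_of_eq len_ok.1) maps0_1_0 maps0_1_1 maps0_1_2 maps0_1_3⟩
  | 2, _ => exact ⟨comm0_2, mapsB_of_parts _ _ _ (Nat.le_of_eq len_ok.1) maps0_2_0 maps0_2_1 maps0_2_2 maps0_2_3⟩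
  | 3, _ => exact ⟨comm0_3, mapsB_of_parts _ _ _ (Nat.le_of_eq len_ok.1) maps0_3_0 maps0_3_1 maps0_3_2 maps0_3_3⟩
  | 4, _ => exact ⟨comm0_4, mapsB_of_parts _ _ _ (Nat.le_of_eq len_ok.1) maps0_4_0 maps0_4_1 maps0_4_2 maps0_4_3⟩
  | 5, _ => exact ⟨comm0_5, mapsB_of_parts _ _ _ (Nat.le_of_eq len_ok.1) maps0_5_0 maps0_5_1 maps0_5_2 maps0_5_3⟩
  | 6, _ => exact ⟨comm0_6, mapsB_of_parts _ _ _ (Nat.le_of_eq len_ok.1) maps0_6_0 maps0_6_1 maps0_6_2 maps0_6_3⟩
  | 7, _ => exact ⟨comm0_7, mapsB_of_parts _ _ _ (Nat.le_of_eq len_ok.1) maps0_7_0 maps0_7_1 maps0_7_2 maps0_7_3⟩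
  | 8, _ => exact ⟨comm0_8, mapsB_of_parts _ _ _ (Nat.le_of_eq len_ok.1) maps0_8_0 maps0_8_1 maps0_8_2 maps0_8_3⟩
  | 9, _ => exact ⟨comm0_9, mapsB_of_parts _ _ _ (Nat.le_of_eq len_ok.1) maps0_9_0 maps0_9_1 maps0_9_2 maps0_9_3⟩
  | _ + 10, h => exact absurd h (by omega)

end CfsgLib.Recog.SporBound.Fi22Outer
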